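import Groth.Agent.IsoNatLib.Bald.Theta
import Groth.Agent.Stk19.AlgSt.Qc
import Groth.Agent.Stk19b.Gerbe.Flat

/-!
# A smooth presentation of the arrows between pullbacks of an atlas
-/

set_option autoImplicit false
set_option linter.style.haveILetI false
set_option backward.isDefEq.respectTransparency false
set_option backward.isDefEq.respectTransparency.types false

universe u

open CategoryTheory CategoryTheory.Limits AlgebraicGeometry Opposite FibCat
open Groth.Agent.Stk19 Groth.Agent.Desc19 Groth.Agent.IsoNatLib.Twist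

namespace Groth.Agent.IsoNatLib.Bald

variable {S : Scheme.{u}} {𝒳 : AlgSt.Cat S}

/-- The point of a functor between slices is smooth when the functor is. -/
theorem smooth_top {V W : Over S} {d : overCat V ⥤ᵇ overCat W}
    (hd : AlgSt.RepByAlgSpWith (AlgSp.LocP @Smooth) d) : Smooth (d.obj (Over.mk (𝟙 V))).hom.left := by
  obtain ⟨π₀, ⟨i⟩⟩ := exists_overMap_iso d
  have h₀ := Stk19b.Gerbe.prop_of_with_overMap AlgSpLib.etLocal_smooth (repByAlgSpWith_of_iso i hd)
  let t := appIso i (Over.mk (𝟙 V))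
  have e : (d.obj (Over.mk (𝟙 V))).hom = t.hom.left ≫ π₀ :=
    (Over.w t.hom).symm.trans (congrArg (t.hom.left ≫ ·) (Category.id_comp π₀))
  rw [e]
  have : IsIso t.hom.left := inferInstanceAs (IsIso ((Over.forget W).map t.hom))
  have : IsIso t.hom.left.left := inferInstanceAs (IsIso ((Over.forget S).map t.hom.left))
  rw [Over.comp_left]
  infer_instance

variable {U : Over S} {x : overCat U ⥤ᵇ 𝒳}

/-- The object of a vertical arrow. -/
noncomputable def tri (hX : IsFibGrpd 𝒳.p) {T : Over S} {a b : T ⟶ U} (v : Vt x a b) : (fp x x).obj :=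
  haveI : IsIso v.hom :=
    have : IsIso (𝒳.p.map v.hom) := by rw [v.map_hom]; infer_instance
    fibGrpd_isIso hX _
  fpMk (Over.mk a) (Over.mk b) (asIso v.hom)
    (vert_change 𝒳.p _ (vert_of_map_eq 𝒳.p v.map_hom) (x.w_obj _))

theorem isRes_of_arrow (hX : IsFibGrpd 𝒳.p) {T' T : Over S} {k : T' ⟶ T} {a b : T ⟶ U} {a' b' : T' ⟶ U}
    {v : Vt x a b} {v' : Vt x a' b'} (N : tri hX v' ⟶ tri hX v) (hN : N.hom.fst.left = k) : IsRes x k v v' := by
  have h₂ : N.hom.snd.left = k := by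
    have := fp_map_snd N
    simp only [tri, fpMk] at this
    simpa [hN] using this
  have ha : k ≫ a = a' := hN ▸ Over.w N.hom.fst
  have hb : k ≫ b = b' := h₂ ▸ Over.w N.hom.snd
  refine ⟨ha, hb, ?_⟩
  have e₁ : N.hom.fst = kh k ha := Over.OverMorphism.ext hN
  have e₂ : N.hom.snd = kh k hb := Over.OverMorphism.ext h₂
  have w : x.map N.hom.fst ≫ v.hom = v'.hom ≫ x.map N.hom.snd := N.hom.w
  rw [e₁, e₂] at w
  exact w.symm

theorem exists_arrow_of_isRes (hX : IsFibGrpd 𝒳.p) {T' T : Over S} {k : T' ⟶ T} {a b : T ⟶ U} {a' b' : T' ⟶ U}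
    {v : Vt x a b} {v' : Vt x a' b'} (h : IsRes x k v v') :
    ∃ N : tri hX v' ⟶ tri hX v, N.hom.fst.left = k := by
  obtain ⟨ha, hb, e⟩ := h
  exact ⟨fpHom (kh k ha) (kh k hb) e.symm, rfl⟩

/-- Every object of the self-product is one of a vertical arrow. -/
theorem exists_tri (hX : IsFibGrpd 𝒳.p) (o : (fp x x).obj) {T : Over S} (e : o.obj.fst.left = T) :
    ∃ (a b : T ⟶ U) (v : Vt x a b) (i : tri hX v ≅ o), i.hom.hom.fst.left = eqToHom e.symm := by
  subst e
  let A := o.obj.fst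
  let B := o.obj.snd
  have eB : B.left = A.left := fp_base_eq o
  let a : A.left ⟶ U := A.hom
  let b : A.left ⟶ U := eqToHom eB.symm ≫ B.hom
  let iA : (Over.mk a : (overCat U).obj) ≅ A := Over.isoMk (Iso.refl _) (Category.id_comp _)
  let iB : (Over.mk b : (overCat U).obj) ≅ B := Over.isoMk (eqToIso eB.symm) rfl
  let v : Vt x a b := ⟨x.map iA.hom ≫ o.obj.iso.hom ≫ x.map iB.inv, by
    rw [𝒳.p.map_comp, 𝒳.p.map_comp, based_map x, based_map x, fp_iso_map o]
    simp [iA, iB, a, b]⟩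
  refine ⟨a, b, v, fpIsoMk (a := tri hX v) (b := o) iA iB ?_, rfl⟩
  show x.map iA.hom ≫ o.obj.iso.hom = (x.map iA.hom ≫ o.obj.iso.hom ≫ x.map iB.inv) ≫ x.map iB.hom
  rw [Category.assoc, Category.assoc, ← x.toFunctor.map_comp, iB.inv_hom_id, x.toFunctor.map_id, Category.comp_id]

/-- Two arrows from one object give two pullbacks. -/
theorem exists_res_of_arrows (hX : IsFibGrpd 𝒳.p) {T' T₁ T₂ : Over S} {k₁ : T' ⟶ T₁} {k₂ : T' ⟶ T₂}
    {a₁ b₁ : T₁ ⟶ U} {a₂ b₂ : T₂ ⟶ U} {v₁ : Vt x a₁ b₁} {v₂ : Vt x a₂ b₂} {o : (fp x x).obj}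
    (e : o.obj.fst.left = T') (M₁ : o ⟶ tri hX v₁) (M₂ : o ⟶ tri hX v₂)
    (h₁ : M₁.hom.fst.left = eqToHom e ≫ k₁) (h₂ : M₂.hom.fst.left = eqToHom e ≫ k₂) :
    ∃ (a b : T' ⟶ U) (ε : Vt x a b), IsRes x k₁ v₁ ε ∧ IsRes x k₂ v₂ ε := by
  obtain ⟨a, b, ε, i, hi⟩ := exists_tri hX o e
  refine ⟨a, b, ε, isRes_of_arrow hX (i.hom ≫ M₁) ?_, isRes_of_arrow hX (i.hom ≫ M₂) ?_⟩
  · show i.hom.hom.fst.left ≫ M₁.hom.fst.left = k₁
    rw [hi, h₁, eqToHom_trans_assoc, eqToHom_refl, Category.id_comp]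
  · show i.hom.hom.fst.left ≫ M₂.hom.fst.left = k₂
    rw [hi, h₂, eqToHom_trans_assoc, eqToHom_refl, Category.id_comp]

/-- A smooth presentation exists. -/
theorem exists_chart (h𝒳 : AlgSt.IsAlgStack Scheme.fppfPrecoverage 𝒳) (x : overCat U ⥤ᵇ 𝒳)
    (hx : AlgSt.RepByAlgSpWith (AlgSp.LocP @Smooth) x) : Nonempty (Chart x) := by
  have hX := h𝒳.isStack.1
  have hR := isAlgStack_fp h𝒳.isStack h𝒳.diag (isAlgStack_overCat U) (isAlgStack_overCat U) x x
  have hfR := hR.isStack.1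
  obtain ⟨W, u, hu, hus⟩ := hR.atlas
  have hRR := isAlgStack_fp hR.isStack hR.diag (isAlgStack_overCat W) (isAlgStack_overCat W) u u
  have hfRR := hRR.isStack.1
  obtain ⟨W₂, w, hw, hws⟩ := hRR.atlas
  let o₀ := u.obj (Over.mk (𝟙 W))
  have e₀ : o₀.obj.fst.left = W := u.w_obj _
  obtain ⟨g₁, g₂, γ, i₀, hi₀⟩ := exists_tri hX o₀ e₀
  have hsU : Smooth o₀.obj.fst.hom.left :=
    smooth_top (with_comp_locP AlgSpLib.etLocal_smooth hfR hu (repByAlgSpWith_fpFst x hx))
  have hg₁ : Smooth g₁.left := by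
    have h := Over.w i₀.hom.hom.fst
    have : g₁ = eqToHom e₀.symm ≫ o₀.obj.fst.hom := by rw [← hi₀]; exact h.symm
    rw [this, Over.comp_left]
    haveI := hsU
    infer_instance
  have hi₀' : i₀.inv.hom.fst.left = eqToHom e₀ := by
    have h := congrArg (fun m => m.hom.fst.left) i₀.hom_inv_id
    have h' : i₀.hom.hom.fst.left ≫ i₀.inv.hom.fst.left = 𝟙 _ := h
    rw [hi₀] at h'
    exact (cancel_epi (eqToHom e₀.symm)).1 (h'.trans ((eqToHom_trans _ _).trans (eqToHom_refl _ rfl)).symm)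
  -- the canonical arrow to the universal one
  let M : ∀ P : (overCat W).obj, u.obj P ⟶ tri hX γ := fun P => toTop u P ≫ i₀.inv
  have hM : ∀ P : (overCat W).obj, (M P).hom.fst.left = eqToHom (u.w_obj P) ≫ P.hom := fun P => by
    show (fp x x).p.map (toTop u P) ≫ i₀.inv.hom.fst.left = _
    rw [toTop_map, hi₀', Category.assoc, Category.assoc]
    erw [eqToHom_trans]
    simp
  have hcov : ∀ {T T' : Over S} {c : T' ⟶ T}, Flat c.left → LocallyOfFinitePresentation c.left →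
      Surjective c.left → IsCov c := fun h₁ h₂ h₃ => ⟨h₁, h₂, h₃⟩
  refine ⟨{ W := W, g₁ := g₁, g₂ := g₂, γ := γ, smooth := hg₁, surj := ?_, indep := ?_ }⟩
  · intro T a b α
    obtain ⟨y, i, hi⟩ := exists_classifying hfR (tri hX α) (U := T) rfl
    have him : i.hom.hom.fst.left = eqToHom _ := map_eq_of_vert (fp x x).p (R := T) i.hom
    obtain ⟨T', c, hc₁, hc₂, hc₃, z, ⟨j⟩⟩ :=
      exists_lift_of_cover (with_flat_of_smooth hu).1 (with_flat_of_smooth hu).2 hus T y
    let top' : (overCat T').obj := Over.mk (𝟙 T')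
    let P := z.obj top'
    have eP : P.left = T' := z.w_obj top'
    have eo : (u.obj P).obj.fst.left = T' := (u.w_obj P).trans eP
    let N : u.obj P ⟶ tri hX α := j.hom.toNatTrans.app top' ≫ toTop y ((AlgSt.overMap c).obj top') ≫ i.hom
    obtain ⟨a', b', ε, h₁, h₂⟩ := exists_res_of_arrows hX (k₁ := c) (k₂ := eqToHom eP.symm ≫ P.hom) eo N (M P)
      (by
        have h1 : (fp x x).p.map (j.hom.toNatTrans.app top') = eqToHom _ := based_app_map j.hom top'
        show (fp x x).p.map (j.hom.toNatTrans.app top') ≫ (fp x x).p.map (toTop y _) ≫ i.hom.hom.fst.left = _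
        rw [h1, toTop_map, him]
        simp [AlgSt.overMap, top'])
      (by rw [hM]; simp)
    exact ⟨T', c, hcov hc₁ hc₂ hc₃, _, a', b', ε, h₁, h₂⟩
  · intro T k k' a b ε h h'
    obtain ⟨Nk, hNk⟩ := exists_arrow_of_isRes hX h
    obtain ⟨Nk', hNk'⟩ := exists_arrow_of_isRes hX h'
    have hiso : ∀ (l : T ⟶ W) (N : tri hX ε ⟶ tri hX γ), N.hom.fst.left = l →
        ∃ χ : u.obj (Over.mk l) ⟶ tri hX ε, (fp x x).p.map χ = eqToHom (u.w_obj (Over.mk l)) ∧ IsIso χ := by
      intro l N hN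
      obtain ⟨χ, ⟨hχ, -⟩, -⟩ := fibGrpd_fac hfR N (M (Over.mk l)) (eqToHom (u.w_obj (Over.mk l))) (by
        show eqToHom _ ≫ N.hom.fst.left = (M (Over.mk l)).hom.fst.left
        rw [hN, hM]
        rfl)
      have : IsIso ((fp x x).p.map χ) := by rw [hχ]; infer_instance
      exact ⟨χ, hχ, fibGrpd_isIso hfR _⟩
    obtain ⟨χ, hχ, _⟩ := hiso k Nk hNk
    obtain ⟨χ', hχ', _⟩ := hiso k' Nk' hNk'
    have hθ : (fp x x).p.map (χ ≫ inv χ') =
        eqToHom ((u.w_obj (Over.mk k)).trans (u.w_obj (Over.mk k')).symm) := by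
      rw [(fp x x).p.map_comp, Functor.map_inv, IsIso.comp_inv_eq, hχ, hχ', eqToHom_trans]
    let q : (fp u u).obj := fpMk (Over.mk k) (Over.mk k') (asIso (χ ≫ inv χ'))
      (vert_change (fp x x).p _ (vert_of_map_eq (fp x x).p hθ) (u.w_obj _))
    obtain ⟨y, i, hi⟩ := exists_classifying hfRR q (U := T) rfl
    have him : i.hom.hom.fst.left = eqToHom _ := map_eq_of_vert (fp u u).p (R := T) i.hom
    obtain ⟨T', c, hc₁, hc₂, hc₃, z, ⟨j⟩⟩ :=
      exists_lift_of_cover (with_flat_of_smooth hw).1 (with_flat_of_smooth hw).2 hws T y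
    let top' : (overCat T').obj := Over.mk (𝟙 T')
    let P := z.obj top'
    have eP : P.left = T' := z.w_obj top'
    let N : w.obj P ⟶ q := j.hom.toNatTrans.app top' ≫ toTop y ((AlgSt.overMap c).obj top') ≫ i.hom
    let o₂ := w.obj (Over.mk (𝟙 W₂))
    let M₂ : w.obj P ⟶ o₂ := toTop w P
    have eA : o₂.obj.fst.left = W₂ := w.w_obj _
    have eB : o₂.obj.snd.left = W₂ := (fp_base_eq o₂).trans eA
    have eN : N.hom.fst.left = eqToHom ((w.w_obj P).trans eP) ≫ c := by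
      have h1 : (fp u u).p.map (j.hom.toNatTrans.app top') = eqToHom _ := based_app_map j.hom top'
      show (fp u u).p.map (j.hom.toNatTrans.app top') ≫ (fp u u).p.map (toTop y _) ≫ i.hom.hom.fst.left = _
      rw [h1, toTop_map, him]
      simp [AlgSt.overMap, top']
    have eM : M₂.hom.fst.left = eqToHom (w.w_obj P) ≫ P.hom ≫ eqToHom eA.symm := toTop_map w P
    let l : T' ⟶ W₂ := eqToHom eP.symm ≫ P.hom
    let π : W₂ ⟶ W := eqToHom eA.symm ≫ o₂.obj.fst.hom
    let π' : W₂ ⟶ W := eqToHom eB.symm ≫ o₂.obj.snd.hom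
    have hl : l ≫ π = c ≫ k := by
      have h1 : M₂.hom.fst.left ≫ o₂.obj.fst.hom = (w.obj P).obj.fst.hom := Over.w M₂.hom.fst
      have h2 : N.hom.fst.left ≫ k = (w.obj P).obj.fst.hom := Over.w N.hom.fst
      rw [eM, ← h2, eN] at h1
      rw [← cancel_epi (eqToHom ((w.w_obj P).trans eP))]
      simpa [l, π] using h1
    have hl' : l ≫ π' = c ≫ k' := by
      have h1 : M₂.hom.snd.left ≫ o₂.obj.snd.hom = (w.obj P).obj.snd.hom := Over.w M₂.hom.snd
      have h2 : N.hom.snd.left ≫ k' = (w.obj P).obj.snd.hom := Over.w N.hom.snd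
      have s1 : M₂.hom.snd.left = _ := fp_map_snd M₂
      have s2 : N.hom.snd.left = _ := fp_map_snd N
      rw [s1, show (overCat W).p.map M₂.hom.fst = M₂.hom.fst.left from rfl, eM, ← h2, s2,
        show (overCat W).p.map N.hom.fst = N.hom.fst.left from rfl, eN] at h1
      rw [← cancel_epi (eqToHom ((fp_base_eq (w.obj P)).trans ((w.w_obj P).trans eP)))]
      simpa [l, π'] using h1
    let θ := o₂.obj.iso
    obtain ⟨a₂, b₂, γ₂, h₁, h₂⟩ := exists_res_of_arrows hX (k₁ := π) (k₂ := π')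
      (o := u.obj o₂.obj.fst) ((u.w_obj o₂.obj.fst).trans eA) (M o₂.obj.fst) (θ.hom ≫ M o₂.obj.snd)
      (by rw [hM]; simp [π])
      (by
        show (fp x x).p.map θ.hom ≫ (M o₂.obj.snd).hom.fst.left = _
        rw [fp_iso_map o₂, hM]
        simp [π'])
    have hπ : Smooth π.left := by
      have := smooth_top (with_comp_locP AlgSpLib.etLocal_smooth hfRR hw (repByAlgSpWith_fpFst u hu))
      have : Smooth o₂.obj.fst.hom.left := this
      rw [show π.left = (eqToHom eA.symm).left ≫ o₂.obj.fst.hom.left from rfl]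
      infer_instance
    refine ⟨T', c, hcov hc₁ hc₂ hc₃, W₂, π, π', l, a₂, b₂, γ₂, hl, hl', h₁, h₂, ?_⟩
    obtain ⟨ha, -, -⟩ := h₁
    rw [← ha, Over.comp_left]
    infer_instance

end Groth.Agent.IsoNatLib.Bald
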