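import Groth.Agent.IsoNatLib.Bald.Vt

/-!
# Stacks with two charts having the same vertical arrows are equivalent
-/

set_option autoImplicit false
set_option linter.style.haveILetI false
set_option backward.isDefEq.respectTransparency false
set_option backward.isDefEq.respectTransparency.types false

universe u

open CategoryTheory CategoryTheory.Limits AlgebraicGeometry Opposite FibCat
open Groth.Agent.Stk19 Groth.Agent.Desc19 Groth.Agent.IsoNatLib.Twist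

namespace Groth.Agent.IsoNatLib.Bald

variable {S : Scheme.{u}} {𝒳 𝒴 : AlgSt.Cat S} {U : Over S}

/-- The point of the base under an arrow from a pullback of the chart. -/
abbrev bas (x : overCat U ⥤ᵇ 𝒳) {T' : Over S} {a : T' ⟶ U} {z : 𝒳.obj} (ψ : x.obj (Over.mk a) ⟶ z) :
    T' ⟶ 𝒳.p.obj z :=
  eqToHom (x.w_obj (Over.mk a)).symm ≫ 𝒳.p.map ψ

/-- Every object comes locally from the chart. -/
def DenseC (x : overCat U ⥤ᵇ 𝒳) : Prop :=
  ∀ z : 𝒳.obj, ∃ (T' : Over S) (a : T' ⟶ U) (ψ : x.obj (Over.mk a) ⟶ z), IsCov (bas x ψ)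

variable {x : overCat U ⥤ᵇ 𝒳} {y : overCat U ⥤ᵇ 𝒴}

theorem map_eq_bas {T' : Over S} {a : T' ⟶ U} {z : 𝒳.obj} (ψ : x.obj (Over.mk a) ⟶ z) :
    𝒳.p.map ψ = eqToHom (x.w_obj (Over.mk a)) ≫ bas x ψ := by
  simp [bas]

theorem bas_kh {T'' T' : Over S} {k : T'' ⟶ T'} {a'' : T'' ⟶ U} {a : T' ⟶ U} (h : k ≫ a = a'') {z : 𝒳.obj}
    (ψ : x.obj (Over.mk a) ⟶ z) : bas x (x.map (kh k h) ≫ ψ) = k ≫ bas x ψ := by
  simp [bas, map_kh]

theorem bas_vt {T' : Over S} {a a' : T' ⟶ U} (v : Vt x a a') {z : 𝒳.obj} (ψ : x.obj (Over.mk a') ⟶ z) :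
    bas x (v.hom ≫ ψ) = bas x ψ := by
  simp [bas, v.map_hom]

/-- Comparison of two arrows to one object with the same point of the base. -/
theorem existsUnique_vt (hX : IsFibGrpd 𝒳.p) {T' : Over S} {a a' : T' ⟶ U} {z : 𝒳.obj}
    (ψ : x.obj (Over.mk a) ⟶ z) (ψ' : x.obj (Over.mk a') ⟶ z) (h : bas x ψ = bas x ψ') :
    ∃! v : Vt x a a', v.hom ≫ ψ' = ψ := by
  obtain ⟨f, ⟨hf, hfe⟩, hu⟩ := fibGrpd_fac hX ψ' ψ (eqToHom ((x.w_obj (Over.mk a)).trans (x.w_obj (Over.mk a')).symm))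
    (by rw [map_eq_bas ψ, map_eq_bas ψ', h]; simp)
  exact ⟨⟨f, hf⟩, hfe, fun v hv => Vt.ext (hu v.hom ⟨v.map_hom, hv⟩)⟩

/-- An arrow is determined by a lift to the chart over a covering. -/
theorem hom_ext_lift (hS : Stk.IsStack (AlgSp.J S) 𝒳) {T' : Over S} {a : T' ⟶ U} {z z' : 𝒳.obj}
    (ψ : x.obj (Over.mk a) ⟶ z) (hc : IsCov (bas x ψ)) (g g' : z ⟶ z') (hg : 𝒳.p.map g = 𝒳.p.map g')
    (he : ψ ≫ g = ψ ≫ g') : g = g' :=
  hom_ext_cov hS hc rfl (x.w_obj _) ψ (by simpa using map_eq_bas ψ) g g' hg he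

/-- An arrow descends from a lift to the chart over a covering. -/
theorem exists_hom_of_lift (hS : Stk.IsStack (AlgSp.J S) 𝒳) {T' : Over S} {a : T' ⟶ U} {z z' : 𝒳.obj}
    (ψ : x.obj (Over.mk a) ⟶ z) (hc : IsCov (bas x ψ)) (t : 𝒳.p.obj z ⟶ 𝒳.p.obj z')
    (ξ : x.obj (Over.mk a) ⟶ z') (hξ : bas x ξ = bas x ψ ≫ t)
    (hcomp : ∀ (T'' : Over S) (p q : T'' ⟶ T') (a₁ a₂ : T'' ⟶ U) (hp : p ≫ a = a₁) (hq : q ≫ a = a₂)
      (v : Vt x a₁ a₂), v.hom ≫ x.map (kh q hq) ≫ ψ = x.map (kh p hp) ≫ ψ →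
        v.hom ≫ x.map (kh q hq) ≫ ξ = x.map (kh p hp) ≫ ξ) :
    ∃ g : z ⟶ z', 𝒳.p.map g = t ∧ ψ ≫ g = ξ := by
  have hX := hS.1
  obtain ⟨z'', κ, e'', hκ⟩ := fibGrpd_lift hX z' t
  obtain ⟨ξ', ⟨hξ'm, hξ'⟩, -⟩ := fibGrpd_fac hX κ ξ (eqToHom (x.w_obj _) ≫ bas x ψ ≫ eqToHom e''.symm) (by
    rw [hκ, map_eq_bas ξ, hξ]; simp)
  obtain ⟨χ, hχ, hψχ⟩ := exists_hom_of_cover hS hc (rfl : 𝒳.p.obj z = _) e'' (x.w_obj (Over.mk a)) ψ ξ'
    (by simpa using map_eq_bas ψ) hξ'm (fun w p q hpq => by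
      let T'' := 𝒳.p.obj w
      let P : T'' ⟶ T' := 𝒳.p.map p ≫ eqToHom (x.w_obj (Over.mk a))
      let Q : T'' ⟶ T' := 𝒳.p.map q ≫ eqToHom (x.w_obj (Over.mk a))
      obtain ⟨ω, ⟨hω, hωp⟩, -⟩ := fibGrpd_fac hX (x.map (kh P rfl : Over.mk (P ≫ a) ⟶ Over.mk a)) p
        (eqToHom (x.w_obj (Over.mk (P ≫ a))).symm) (by rw [map_kh]; simp [P])
      have hPQ : P ≫ bas x ψ = Q ≫ bas x ψ := by
        have h := congrArg 𝒳.p.map hpq
        rw [𝒳.p.map_comp, 𝒳.p.map_comp] at h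
        simpa [P, Q, bas] using h
      obtain ⟨v, hv, -⟩ := existsUnique_vt hX (x.map (kh P (rfl : P ≫ a = _)) ≫ ψ)
        (x.map (kh Q (rfl : Q ≫ a = _)) ≫ ψ) (by rw [bas_kh, bas_kh, hPQ])
      have hωq : ω ≫ v.hom ≫ x.map (kh Q (rfl : Q ≫ a = _)) = q := by
        refine fibGrpd_ext hX ψ ?_ ?_
        · rw [𝒳.p.map_comp, 𝒳.p.map_comp, hω, v.map_hom, map_kh]
          simp [Q]
        · rw [Category.assoc ω, Category.assoc v.hom, hv, ← Category.assoc ω, hωp, hpq]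
      have key := hcomp T'' P Q _ _ rfl rfl v hv
      refine fibGrpd_ext hX κ ?_ ?_
      · rw [𝒳.p.map_comp, 𝒳.p.map_comp, hξ'm]
        simpa only [P, Q, Category.assoc] using congrArg (· ≫ eqToHom e''.symm) hPQ
      · rw [Category.assoc, Category.assoc, hξ']
        conv_rhs => rw [← hωq, Category.assoc ω, Category.assoc v.hom, key, ← Category.assoc ω, hωp])
  exact ⟨χ ≫ κ, by rw [𝒳.p.map_comp, hχ, hκ]; simp, by rw [← Category.assoc, hψχ, hξ']⟩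

section Ext

variable (x) in
/-- Bijections of vertical arrows compatible with pullbacks and compositions. -/
structure VtEquiv (y : overCat U ⥤ᵇ 𝒴) where
  /-- the bijection -/
  F : ∀ {T : Over S} (a b : T ⟶ U), Vt x a b → Vt y a b
  bij : ∀ {T : Over S} (a b : T ⟶ U), Function.Bijective (F (T := T) a b)
  natural : ∀ {T' T : Over S} (k : T' ⟶ T) {a b : T ⟶ U} {a' b' : T' ⟶ U} (v : Vt x a b) (v' : Vt x a' b'),
    IsRes x k v v' → IsRes y k (F a b v) (F a' b' v')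
  mul : ∀ {T : Over S} {a b d : T ⟶ U} (v : Vt x a b) (w : Vt x b d), F a d (v.mul w) = (F a b v).mul (F b d w)

variable (E : VtEquiv x y)

theorem VtEquiv.map_id (hY : IsFibGrpd 𝒴.p) {T : Over S} (a : T ⟶ U) : E.F a a (Vt.id a) = Vt.id a := by
  have h := congrArg Vt.hom (E.mul (Vt.id a) (Vt.id a))
  rw [show (Vt.id (x := x) a).mul (Vt.id a) = Vt.id a from Vt.ext (Category.id_comp _)] at h
  have : IsIso (E.F a a (Vt.id a)).hom := by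
    have : IsIso (𝒴.p.map (E.F a a (Vt.id a)).hom) := by rw [(E.F a a _).map_hom]; infer_instance
    exact fibGrpd_isIso hY _
  refine Vt.ext ((cancel_epi (E.F a a (Vt.id a)).hom).1 ?_)
  exact h.symm.trans (Category.comp_id _).symm

/-- A transport of an object. -/
structure Transp (z : 𝒳.obj) where
  /-- the object -/
  η : 𝒴.obj
  base : 𝒴.p.obj η = 𝒳.p.obj z
  /-- the transport of arrows -/
  ρ : ∀ {T' : Over S} {a : T' ⟶ U}, (x.obj (Over.mk a) ⟶ z) → (y.obj (Over.mk a) ⟶ η)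
  bas_ρ : ∀ {T' : Over S} {a : T' ⟶ U} (ψ : x.obj (Over.mk a) ⟶ z), bas y (ρ ψ) = bas x ψ ≫ eqToHom base.symm
  ρ_kh : ∀ {T'' T' : Over S} {k : T'' ⟶ T'} {a'' : T'' ⟶ U} {a : T' ⟶ U} (h : k ≫ a = a'')
    (ψ : x.obj (Over.mk a) ⟶ z), ρ (x.map (kh k h) ≫ ψ) = y.map (kh k h) ≫ ρ ψ
  ρ_vt : ∀ {T' : Over S} {a a' : T' ⟶ U} (v : Vt x a a') (ψ : x.obj (Over.mk a') ⟶ z),
    ρ (v.hom ≫ ψ) = (E.F a a' v).hom ≫ ρ ψ

theorem exists_transp (hX : IsFibGrpd 𝒳.p) (hY : Stk.IsStack (AlgSp.J S) 𝒴) (hd : DenseC x) (z : 𝒳.obj) :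
    Nonempty (Transp E z) := by
  let R : Sieve (𝒳.p.obj z) :=
    { arrows := fun V f => ∃ (a : V ⟶ U) (ψ : x.obj (Over.mk a) ⟶ z), bas x ψ = f
      downward_closed := by
        rintro V V' f ⟨a, ψ, rfl⟩ g
        exact ⟨g ≫ a, x.map (kh g rfl) ≫ ψ, bas_kh rfl ψ⟩ }
  have hR : R ∈ AlgSp.J S (𝒳.p.obj z) := by
    obtain ⟨T', a, ψ, hc⟩ := hd z
    refine (AlgSp.J S).superset_covering ?_ hc.mem
    rintro V f hf
    obtain ⟨-, g, rfl⟩ := (Sieve.mem_ofArrows_iff _ _ _).1 hf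
    exact R.downward_closed ⟨a, ψ, rfl⟩ g
  choose a ψ hψ using fun o : (Stk.sieveCat R).obj => o.property
  have hv : ∀ {o o' : (Stk.sieveCat R).obj} (φ : o ⟶ o'), ∃! v : Vt x (a o) (φ.hom.left ≫ a o'),
      v.hom ≫ x.map (kh φ.hom.left rfl) ≫ ψ o' = ψ o := fun {o o'} φ =>
    existsUnique_vt hX _ _ (by rw [bas_kh, hψ, hψ]; exact (Over.w φ.hom).symm)
  choose v hve hvu using @hv
  let m : ∀ {o o' : (Stk.sieveCat R).obj}, (o ⟶ o') → (y.obj (Over.mk (a o)) ⟶ y.obj (Over.mk (a o'))) :=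
    fun {o o'} φ => (E.F _ _ (v φ)).hom ≫ y.map (kh φ.hom.left rfl)
  -- any decomposition gives the same arrow
  have hm : ∀ {o o' : (Stk.sieveCat R).obj} (φ : o ⟶ o') {k : o.obj.left ⟶ o'.obj.left} (_ : φ.hom.left = k)
      {b : o.obj.left ⟶ U} (hb : k ≫ a o' = b) (w : Vt x (a o) b), w.hom ≫ x.map (kh k hb) ≫ ψ o' = ψ o →
      m φ = (E.F _ _ w).hom ≫ y.map (kh k hb) := by
    intro o o' φ k hk b hb w hw
    subst hk hb
    rw [hvu φ w hw]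
  let D₀ : (Stk.sieveCat R).obj ⥤ 𝒴.obj :=
    { obj := fun o => y.obj (Over.mk (a o))
      map := fun φ => m φ
      map_id := fun o => by
        rw [hm (𝟙 o) (k := 𝟙 _) rfl (b := a o) (Category.id_comp _) (Vt.id (a o)) (by
          rw [show kh (𝟙 o.obj.left) (Category.id_comp (a o)) = 𝟙 _ from Over.OverMorphism.ext rfl,
            x.toFunctor.map_id, Category.id_comp]
          exact Category.id_comp _), E.map_id hY.1,
          show kh (𝟙 o.obj.left) (Category.id_comp (a o)) = 𝟙 _ from Over.OverMorphism.ext rfl,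
          y.toFunctor.map_id]
        exact Category.id_comp _
      map_comp := fun {o o' o''} φ φ' => by
        obtain ⟨w, hw⟩ := exists_res hX φ.hom.left (v φ')
          (a' := φ.hom.left ≫ a o') (b' := (φ.hom.left ≫ φ'.hom.left) ≫ a o'') rfl (Category.assoc _ _ _).symm
        have hyw := E.natural φ.hom.left (v φ') w hw
        obtain ⟨_, _, e⟩ := hw
        obtain ⟨_, _, e'⟩ := hyw
        rw [hm (φ ≫ φ') (k := φ.hom.left ≫ φ'.hom.left) rfl rfl ((v φ).mul w) (by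
          show ((v φ).hom ≫ w.hom) ≫ _ = _
          rw [← kh_comp (j := φ.hom.left) (k := φ'.hom.left) (a' := φ'.hom.left ≫ a o'')
            (Category.assoc _ _ _).symm rfl, Category.assoc (v φ).hom, Category.assoc (x.map _),
            reassoc_of% e, hve φ', hve φ]),
          E.mul]
        show ((E.F _ _ (v φ)).hom ≫ (E.F _ _ w).hom) ≫ _ = _
        rw [← kh_comp (j := φ.hom.left) (k := φ'.hom.left) (a' := φ'.hom.left ≫ a o'')
            (Category.assoc _ _ _).symm rfl, Category.assoc, reassoc_of% e']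
        simp only [m, Category.assoc] }
  let D : Stk.sieveCat R ⥤ᵇ 𝒴 :=
    { toFunctor := D₀
      w := CategoryTheory.Functor.ext (fun o => y.w_obj (Over.mk (a o))) (fun o o' φ => by
        show 𝒴.p.map (m φ) = _
        simp only [m, 𝒴.p.map_comp, (E.F _ _ (v φ)).map_hom, map_kh]
        simp
        rfl) }
  obtain ⟨η, eη, ν, hν, hνn⟩ := ((isStackFor_iff_glue hY.1 R).1 (hY.2 R hR)).2 D
  let obj : ∀ {T' : Over S} {b : T' ⟶ U}, (x.obj (Over.mk b) ⟶ z) → (Stk.sieveCat R).obj :=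
    fun {T' b} χ => ⟨Over.mk (bas x χ), b, χ, rfl⟩
  have hw : ∀ {T' : Over S} {b : T' ⟶ U} (χ : x.obj (Over.mk b) ⟶ z),
      ∃! w : Vt x b (a (obj χ)), w.hom ≫ ψ (obj χ) = χ := fun χ =>
    existsUnique_vt hX χ (ψ (obj χ)) (hψ (obj χ)).symm
  choose w hwe hwu using @hw
  let ρ : ∀ {T' : Over S} {b : T' ⟶ U}, (x.obj (Over.mk b) ⟶ z) → (y.obj (Over.mk b) ⟶ η) :=
    fun {T' b} χ => (E.F _ _ (w χ)).hom ≫ ν (obj χ)
  -- the transport computed at any element with the same point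
  have hρ : ∀ {T' : Over S} {b : T' ⟶ U} (χ : x.obj (Over.mk b) ⟶ z) (o : (Stk.sieveCat R).obj)
      (k : T' ⟶ o.obj.left) {c : T' ⟶ U} (hc : k ≫ a o = c) (u : Vt x b c),
      u.hom ≫ x.map (kh k hc) ≫ ψ o = χ → ρ χ = (E.F _ _ u).hom ≫ y.map (kh k hc) ≫ ν o := by
    intro T' b χ o k c hc u hu
    have hk : k ≫ o.obj.hom = bas x χ := by rw [← hu, bas_vt, bas_kh, hψ]
    let φ : obj χ ⟶ o := ObjectProperty.homMk (Over.homMk k hk)
    have h1 : ρ χ = (E.F _ _ (w χ)).hom ≫ m φ ≫ ν o := by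
      show _ ≫ ν (obj χ) = _ ≫ D.map φ ≫ ν o
      rw [hνn _ _ φ]
    subst hc
    have h2 : u = (w χ).mul (v φ) := by
      obtain ⟨u₀, -, hu₀⟩ := existsUnique_vt hX χ (x.map (kh k (rfl : k ≫ a o = _)) ≫ ψ o) (by
        rw [bas_kh, hψ, hk])
      refine (hu₀ u hu).trans (hu₀ _ ?_).symm
      show ((w χ).hom ≫ (v φ).hom) ≫ _ = _
      rw [Category.assoc]
      exact (congrArg ((w χ).hom ≫ ·) (hve φ)).trans (hwe χ)
    rw [h1, h2, E.mul]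
    simp only [m, Category.assoc]
    exact (Category.assoc _ _ _).symm
  refine ⟨{ η := η, base := eη, ρ := fun χ => ρ χ, bas_ρ := ?_, ρ_kh := ?_, ρ_vt := ?_ }⟩
  · intro T' b χ
    show eqToHom _ ≫ 𝒴.p.map ((E.F _ _ (w χ)).hom ≫ ν (obj χ)) = _
    rw [𝒴.p.map_comp, (E.F _ _ (w χ)).map_hom, hν]
    simp [obj, D, D₀]
  · intro T'' T' k b'' b hk χ
    obtain ⟨w', hw'⟩ := exists_res hX k (w χ) (a' := b'') (b' := k ≫ a (obj χ)) hk rfl
    have hyw := E.natural k (w χ) w' hw'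
    obtain ⟨_, _, e⟩ := hw'
    obtain ⟨_, _, e'⟩ := hyw
    rw [hρ (x.map (kh k hk) ≫ χ) (obj χ) k rfl w' (by rw [reassoc_of% e, hwe]), reassoc_of% e']
  · intro T' b b' u χ
    have hid : kh (𝟙 T') (Category.id_comp (a (obj χ))) = 𝟙 _ := Over.OverMorphism.ext rfl
    rw [hρ (u.hom ≫ χ) (obj χ) (𝟙 T') (Category.id_comp _) (u.mul (w χ)) (by
      rw [hid, x.toFunctor.map_id, Category.id_comp]
      show (u.hom ≫ (w χ).hom) ≫ _ = _
      rw [Category.assoc, hwe]), hid, y.toFunctor.map_id, Category.id_comp, E.mul]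
    exact Category.assoc _ _ _

/-- Transports are injective on arrows. -/
theorem Transp.ρ_injective (hX : IsFibGrpd 𝒳.p) (hY : IsFibGrpd 𝒴.p) {z : 𝒳.obj} (τ : Transp E z) {T' : Over S}
    {a : T' ⟶ U} {ψ ψ' : x.obj (Over.mk a) ⟶ z} (hb : bas x ψ = bas x ψ') (h : τ.ρ ψ = τ.ρ ψ') : ψ = ψ' := by
  obtain ⟨v, hv, -⟩ := existsUnique_vt hX ψ ψ' hb
  have h1 : (E.F _ _ v).hom ≫ τ.ρ ψ' = τ.ρ ψ' := by rw [← τ.ρ_vt, hv, h]
  have h2 : E.F _ _ v = E.F _ _ (Vt.id a) := by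
    rw [E.map_id hY]
    refine Vt.ext (fibGrpd_ext hY (τ.ρ ψ') ?_ (h1.trans (Category.id_comp _).symm))
    rw [(E.F _ _ v).map_hom, (Vt.id a).map_hom]
  rw [← hv, (E.bij _ _).1 h2]
  exact Category.id_comp _

/-- Transports are surjective over points where a lift exists. -/
theorem Transp.ρ_surjective (hY : IsFibGrpd 𝒴.p) {z : 𝒳.obj} (τ : Transp E z) {T' : Over S}
    {a b : T' ⟶ U} (ψ : x.obj (Over.mk b) ⟶ z) (h : y.obj (Over.mk a) ⟶ τ.η) (hb : bas y h = bas y (τ.ρ ψ)) :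
    ∃ ξ : x.obj (Over.mk a) ⟶ z, τ.ρ ξ = h := by
  obtain ⟨v, hv, -⟩ := existsUnique_vt hY h (τ.ρ ψ) hb
  obtain ⟨w, rfl⟩ := (E.bij _ _).2 v
  exact ⟨w.hom ≫ ψ, by rw [τ.ρ_vt, hv]⟩

/-- The transported arrow exists and is unique. -/
theorem Transp.existsUnique_map (hX : IsFibGrpd 𝒳.p) (hY : Stk.IsStack (AlgSp.J S) 𝒴) (hd : DenseC x)
    {z z' : 𝒳.obj} (τ : Transp E z) (τ' : Transp E z') (g : z ⟶ z') :
    ∃! χ : τ.η ⟶ τ'.η, 𝒴.p.map χ = eqToHom τ.base ≫ 𝒳.p.map g ≫ eqToHom τ'.base.symm ∧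
      ∀ (T' : Over S) (a : T' ⟶ U) (ψ : x.obj (Over.mk a) ⟶ z), τ.ρ ψ ≫ χ = τ'.ρ (ψ ≫ g) := by
  obtain ⟨T₀, a₀, ψ₀, hc⟩ := hd z
  have hbas : ∀ {T' : Over S} {a : T' ⟶ U} (ψ : x.obj (Over.mk a) ⟶ z),
      bas y (τ'.ρ (ψ ≫ g)) = bas y (τ.ρ ψ) ≫ eqToHom τ.base ≫ 𝒳.p.map g ≫ eqToHom τ'.base.symm := by
    intro T' a ψ
    rw [τ'.bas_ρ, τ.bas_ρ]
    simp [bas]
  have hc' : IsCov (bas y (τ.ρ ψ₀)) := by
    rw [τ.bas_ρ]
    exact hc.comp ⟨inferInstance, inferInstance, inferInstance⟩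
  obtain ⟨χ, hχ, hψχ⟩ := exists_hom_of_lift hY (τ.ρ ψ₀) hc'
    (eqToHom τ.base ≫ 𝒳.p.map g ≫ eqToHom τ'.base.symm) (τ'.ρ (ψ₀ ≫ g)) (hbas ψ₀)
    (fun T'' p q a₁ a₂ hp hq v hv => by
      obtain ⟨w, rfl⟩ := (E.bij _ _).2 v
      rw [← τ.ρ_kh, ← τ.ρ_kh, ← τ.ρ_vt] at hv
      have e := τ.ρ_injective E hX hY.1 (by rw [bas_vt, bas_kh, bas_kh] ; have := congrArg (bas y) hv
                                            rw [τ.bas_ρ, τ.bas_ρ, bas_vt, bas_kh, bas_kh] at this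
                                            exact (cancel_mono _).1 this) hv
      rw [← τ'.ρ_kh, ← τ'.ρ_kh, ← τ'.ρ_vt]
      exact congrArg (fun t => τ'.ρ t) (by simpa using congrArg (· ≫ g) e))
  have key : ∀ (T' : Over S) (a : T' ⟶ U) (ψ : x.obj (Over.mk a) ⟶ z), τ.ρ ψ ≫ χ = τ'.ρ (ψ ≫ g) := by
    intro T' a ψ
    let p := pullback.fst (bas x ψ) (bas x ψ₀)
    let q := pullback.snd (bas x ψ) (bas x ψ₀)
    obtain ⟨v, hv, -⟩ := existsUnique_vt hX (x.map (kh p (rfl : p ≫ a = _)) ≫ ψ)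
      (x.map (kh q (rfl : q ≫ a₀ = _)) ≫ ψ₀) (by rw [bas_kh, bas_kh]; exact pullback.condition)
    have hp : IsCov p := cov_pullback_fst' _ _ hc
    refine hom_ext_cov hY hp (y.w_obj (Over.mk a)) (y.w_obj _) (y.map (kh p (rfl : p ≫ a = _)))
      (map_kh y p rfl) _ _ ?_ ?_
    · rw [𝒴.p.map_comp, hχ, map_eq_bas (τ'.ρ (ψ ≫ g)), map_eq_bas (τ.ρ ψ), hbas]
      simp
    · rw [← Category.assoc, ← τ.ρ_kh, ← hv, τ.ρ_vt, τ.ρ_kh, Category.assoc, Category.assoc, hψχ, ← τ'.ρ_kh,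
        ← τ'.ρ_vt, ← τ'.ρ_kh]
      simp [reassoc_of% hv]
  refine ⟨χ, ⟨hχ, key⟩, fun χ' h => ?_⟩
  exact hom_ext_lift hY (τ.ρ ψ₀) hc' _ _ (h.1.trans hχ.symm) ((h.2 _ _ ψ₀).trans (key _ _ ψ₀).symm)

include E in
/-- Two charts with the same vertical arrows give equivalent stacks. -/
theorem exists_equiv (hX : Stk.IsStack (AlgSp.J S) 𝒳) (hY : Stk.IsStack (AlgSp.J S) 𝒴) (hd : DenseC x)
    (hd' : DenseC y) : ∃ e : 𝒳 ⥤ᵇ 𝒴, IsEquivOver e := by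
  have hX₁ := hX.1
  have τ : ∀ z, Transp E z := fun z => (exists_transp E hX₁ hY hd z).some
  choose m hm hmu using fun {z z' : 𝒳.obj} (g : z ⟶ z') => Transp.existsUnique_map E hX₁ hY hd (τ z) (τ z') g
  let F₀ : 𝒳.obj ⥤ 𝒴.obj :=
    { obj := fun z => (τ z).η
      map := fun g => m g
      map_id := fun z => (hmu (𝟙 z) _ ⟨by simp, fun T' a ψ => by
        rw [Category.comp_id, Category.comp_id]⟩).symm
      map_comp := fun g g' => (hmu (g ≫ g') _ ⟨by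
        rw [𝒴.p.map_comp, (hm g).1, (hm g').1]; simp, fun T' a ψ => by
        rw [← Category.assoc, (hm g).2, (hm g').2, Category.assoc]⟩).symm }
  let F : 𝒳 ⥤ᵇ 𝒴 :=
    { toFunctor := F₀
      w := CategoryTheory.Functor.ext (fun z => (τ z).base) (fun z z' g => (hm g).1) }
  haveI : F.toFunctor.Faithful := ⟨fun {z z'} g g' h => by
    obtain ⟨T₀, a₀, ψ₀, hc⟩ := hd z
    have h' : m g = m g' := h
    have hb : 𝒳.p.map g = 𝒳.p.map g' := by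
      have e := congrArg 𝒴.p.map h'
      rw [(hm g).1, (hm g').1] at e
      exact (cancel_mono _).1 ((cancel_epi _).1 e)
    refine hom_ext_lift hX ψ₀ hc g g' hb ((τ z').ρ_injective E hX₁ hY.1 ?_ ?_)
    · simp [bas, hb]
    · rw [← (hm g).2, ← (hm g').2, h']⟩
  haveI : F.toFunctor.Full := ⟨fun {z z'} χ => by
    let χ' : (τ z).η ⟶ (τ z').η := χ
    obtain ⟨T₀, a₀, ψ₀, hc⟩ := hd z
    obtain ⟨T₁, a₁, ψ₁, hc'⟩ := hd z'
    let t : 𝒳.p.obj z ⟶ 𝒳.p.obj z' := eqToHom (τ z).base.symm ≫ 𝒴.p.map χ' ≫ eqToHom (τ z').base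
    let p := pullback.fst (bas x ψ₀ ≫ t) (bas x ψ₁)
    let q := pullback.snd (bas x ψ₀ ≫ t) (bas x ψ₁)
    let ψ := x.map (kh p (rfl : p ≫ a₀ = _)) ≫ ψ₀
    have hψ : IsCov (bas x ψ) := by
      rw [bas_kh]
      exact (cov_pullback_fst' _ _ hc').comp hc
    obtain ⟨ξ, hξ⟩ := (τ z').ρ_surjective E hY.1 (x.map (kh q (rfl : q ≫ a₁ = _)) ≫ ψ₁) ((τ z).ρ ψ ≫ χ') (by
      have e : p ≫ bas x ψ₀ ≫ t = q ≫ bas x ψ₁ := pullback.condition
      calc bas y ((τ z).ρ ψ ≫ χ') = bas y ((τ z).ρ ψ) ≫ 𝒴.p.map χ' := by simp [bas]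
        _ = bas y ((τ z').ρ (x.map (kh q (rfl : q ≫ a₁ = _)) ≫ ψ₁)) := by
          rw [(τ z).bas_ρ, (τ z').bas_ρ, bas_kh, bas_kh, ← e]
          simp [t])
    have hb : bas x ξ = bas x ψ ≫ t := by
      rw [← cancel_mono (eqToHom (τ z').base.symm), ← (τ z').bas_ρ, hξ]
      calc bas y ((τ z).ρ ψ ≫ χ') = bas y ((τ z).ρ ψ) ≫ 𝒴.p.map χ' := by simp [bas]
        _ = _ := by rw [(τ z).bas_ρ]; simp [t]
    obtain ⟨g, hg, hψg⟩ := exists_hom_of_lift hX ψ hψ t ξ hb fun T'' r r' b b' hr hr' v hv => by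
      refine (τ z').ρ_injective E hX₁ hY.1 ?_ ?_
      · have h := congrArg (bas x) hv
        rw [bas_vt, bas_kh hr' ψ, bas_kh hr ψ] at h
        rw [bas_vt, bas_kh hr' ξ, bas_kh hr ξ, hb, ← Category.assoc, h, Category.assoc]
      · rw [(τ z').ρ_vt, (τ z').ρ_kh, (τ z').ρ_kh, hξ, ← Category.assoc (y.map _), ← (τ z).ρ_kh,
          ← Category.assoc, ← (τ z).ρ_vt, hv, (τ z).ρ_kh, Category.assoc]
    refine ⟨g, ?_⟩
    refine hom_ext_lift hY ((τ z).ρ ψ) ?_ (m g) χ' ?_ ?_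
    · rw [(τ z).bas_ρ]
      exact hψ.comp ⟨inferInstance, inferInstance, inferInstance⟩
    · rw [(hm g).1, hg]
      simp [t]
    · rw [(hm g).2, hψg, hξ]⟩
  refine ⟨F, isEquivOver_of_locally_essSurj (AlgSp.J S) hX (isStack_isPrestack hY) F fun η => ?_⟩
  obtain ⟨T', a, h, hc⟩ := hd' η
  refine ⟨_, hc.mem, fun V f hf => ?_⟩
  obtain ⟨-, g, rfl⟩ := (Sieve.mem_ofArrows_iff _ _ _).1 hf
  let z := x.obj (Over.mk (g ≫ a))
  let j : y.obj (Over.mk (g ≫ a)) ⟶ (τ z).η := (τ z).ρ (𝟙 z)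
  have hj : 𝒴.p.map j = eqToHom ((y.w_obj _).trans ((x.w_obj _).symm.trans (τ z).base.symm)) := by
    rw [map_eq_bas j, (τ z).bas_ρ]
    simp [bas, z]
  haveI : IsIso j := by
    have : IsIso (𝒴.p.map j) := by rw [hj]; infer_instance
    exact fibGrpd_isIso hY.1 _
  refine ⟨z, inv j ≫ y.map (kh g (rfl : g ≫ a = _)) ≫ h, ?_⟩
  refine IsHomLift.of_fac' 𝒴.p _ _ ((τ z).base.trans (x.w_obj _)) rfl ?_
  rw [𝒴.p.map_comp, 𝒴.p.map_comp, Functor.map_inv, IsIso.inv_comp_eq, hj, map_kh, map_eq_bas h]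
  simp

end Ext

end Groth.Agent.IsoNatLib.Bald
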