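import Groth.Agent.IsoNatLib.Twist.Doubling

/-!
# Arrows and pullbacks of vertical arrows between the values of a functor on a slice
-/

set_option autoImplicit false
set_option linter.style.haveILetI false
set_option backward.isDefEq.respectTransparency false
set_option backward.isDefEq.respectTransparency.types false

universe u

open CategoryTheory CategoryTheory.Limits AlgebraicGeometry Opposite FibCat
open Groth.Agent.Stk19 Groth.Agent.Desc19 Groth.Agent.IsoNatLib.Twist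

namespace Groth.Agent.IsoNatLib.Bald

variable {S : Scheme.{u}} {𝒳 : AlgSt.Cat S}

/-- A morphism is a covering for the fppf topology. -/
structure IsCov {T' T : Over S} (c : T' ⟶ T) : Prop where
  flat : Flat c.left
  lfp : LocallyOfFinitePresentation c.left
  surj : Surjective c.left

theorem IsCov.mem {T' T : Over S} {c : T' ⟶ T} (hc : IsCov c) :
    Sieve.ofArrows (fun _ : PUnit.{u + 1} => T') (fun _ => c) ∈ AlgSp.J S T :=
  haveI := hc.flat
  haveI := hc.lfp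
  AlgSpLib.ofArrows_mem_J _ fun z => ⟨PUnit.unit, hc.surj.surj z⟩

theorem IsCov.comp {T'' T' T : Over S} {c' : T'' ⟶ T'} {c : T' ⟶ T} (hc' : IsCov c') (hc : IsCov c) :
    IsCov (c' ≫ c) := by
  haveI := hc.flat; haveI := hc.lfp; haveI := hc.surj
  haveI := hc'.flat; haveI := hc'.lfp; haveI := hc'.surj
  exact ⟨(inferInstance : Flat (c'.left ≫ c.left)), (inferInstance : LocallyOfFinitePresentation (c'.left ≫ c.left)),
    (inferInstance : Surjective (c'.left ≫ c.left))⟩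

/-- Arrows out of a pullback along a covering which agree on overlaps descend. -/
theorem exists_hom_of_cover (hS : Stk.IsStack (AlgSp.J S) 𝒳) {T' T : Over S} {c : T' ⟶ T} (hc : IsCov c)
    {x y z : 𝒳.obj} (hx : 𝒳.p.obj x = T) (hy : 𝒳.p.obj y = T) (hz : 𝒳.p.obj z = T') (μ : z ⟶ x) (t : z ⟶ y)
    (hμ : 𝒳.p.map μ = eqToHom hz ≫ c ≫ eqToHom hx.symm) (ht : 𝒳.p.map t = eqToHom hz ≫ c ≫ eqToHom hy.symm)
    (hcomp : ∀ (w : 𝒳.obj) (p q : w ⟶ z), p ≫ μ = q ≫ μ → p ≫ t = q ≫ t) :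
    ∃ χ : x ⟶ y, 𝒳.p.map χ = eqToHom (hx.trans hy.symm) ∧ μ ≫ χ = t := by
  let R := Sieve.ofArrows (fun _ : PUnit.{u + 1} => T') (fun _ => c)
  have hfac : ∀ (w : 𝒳.obj) (ν : w ⟶ x), R.arrows (𝒳.p.map ν ≫ eqToHom hx) → ∃ ω : w ⟶ z, ω ≫ μ = ν := by
    intro w ν hν
    obtain ⟨-, l, hl⟩ := (Sieve.mem_ofArrows_iff _ _ _).1 hν
    obtain ⟨ω, ⟨-, hω⟩, -⟩ := fibGrpd_fac hS.1 μ ν (l ≫ eqToHom hz.symm) (by
      rw [hμ]
      simp [← reassoc_of% hl])
    exact ⟨ω, hω⟩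
  choose ω hω using hfac
  obtain ⟨χ, ⟨hχ, hspec⟩, -⟩ := (isPrestackFor_iff_glue hS.1 R).1 ((isStack_isPrestack hS).2 R hc.mem)
    x y hx hy (fun w ν h => ω w ν h ≫ t)
    (fun w ν h => by
      conv_rhs => rw [← hω w ν h, 𝒳.p.map_comp, hμ]
      rw [𝒳.p.map_comp, ht]
      simp)
    (fun w' w g ν h h' => by
      rw [← Category.assoc]
      exact hcomp _ _ _ (by rw [hω, Category.assoc, hω]))
  have hm : R.arrows (𝒳.p.map μ ≫ eqToHom hx) := by
    rw [hμ]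
    simpa using R.downward_closed (Sieve.ofArrows_mk _ (fun _ : PUnit.{u + 1} => c) PUnit.unit) (eqToHom hz)
  refine ⟨χ, hχ, ?_⟩
  rw [hspec _ μ hm]
  simpa using hcomp _ (ω _ μ hm) (𝟙 z) (by rw [hω, Category.id_comp])

/-- Arrows over the same arrow of the base agreeing after a covering agree. -/
theorem hom_ext_cov (hS : Stk.IsStack (AlgSp.J S) 𝒳) {T' T : Over S} {c : T' ⟶ T} (hc : IsCov c)
    {x y z : 𝒳.obj} (hx : 𝒳.p.obj x = T) (hz : 𝒳.p.obj z = T') (μ : z ⟶ x)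
    (hμ : 𝒳.p.map μ = eqToHom hz ≫ c ≫ eqToHom hx.symm) (f₁ f₂ : x ⟶ y) (hf : 𝒳.p.map f₁ = 𝒳.p.map f₂)
    (he : μ ≫ f₁ = μ ≫ f₂) : f₁ = f₂ := by
  subst hx
  exact hom_ext_of_cover hS (fun _ : PUnit.{u + 1} => c) hc.mem (fun _ => μ) (fun _ => hz)
    (fun _ => by simpa using hμ) f₁ f₂ hf fun _ => he

end Groth.Agent.IsoNatLib.Bald
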