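import Groth.Agent.IsoNatLib.Bald.Chart
import Groth.Agent.IsoNatLib.Bald.Extend
import Groth.Agent.IsoNatLib.Chart.Main
import Groth.Agent.IsoNatLib.AutIso.Pair

/-!
# Bald separated stacks are determined by their isomorphism classes
-/

set_option autoImplicit false
set_option linter.style.haveILetI false
set_option backward.isDefEq.respectTransparency false
set_option backward.isDefEq.respectTransparency.types false

universe u

open CategoryTheory CategoryTheory.Limits AlgebraicGeometry Opposite FibCat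
open Groth.Agent.Stk19 Groth.Agent.Desc19 Groth.Agent.IsoNatLib.Twist
open Groth.Agent.IsoNatLib.AutIso (pb pb_cls pb_natural cls_eq_of_map exists_arrow_of_pb_eq isDominantSch_conj)

namespace Groth.Agent.IsoNatLib.Bald

theorem isDominantSch_ι {X : Scheme.{u}} {U : X.Opens} (h : CInt.IsSchematicallyDense U) :
    IsDominantSch U.ι := by
  intro E i _ l hl
  refine IsClosedImmersion.isIso_iff_ker_eq_bot.2 (eq_bot_iff.2 fun V s hs => ?_)
  rw [Scheme.Hom.ker_apply, RingHom.mem_ker] at hs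
  have h0 : U.ι.app V.1 s = 0 := by
    rw [Scheme.Hom.congr_app hl.symm V.1, Scheme.Hom.comp_app]
    have hi : (i.app V.1 ≫ l.app (i ⁻¹ᵁ V.1)) s = 0 :=
      (ConcreteCategory.comp_apply _ _ _).trans ((congrArg (l.app _).hom hs).trans (map_zero _))
    exact (ConcreteCategory.comp_apply _ _ _).trans ((congrArg _ hi).trans (map_zero _))
  rw [Scheme.Opens.ι_app] at h0
  have hle : V.1 ⊓ U ≤ U.ι ''ᵁ U.ι ⁻¹ᵁ V.1 := by
    rw [Scheme.Hom.image_preimage_eq_opensRange_inf, Scheme.Opens.opensRange_ι, inf_comm]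
  have h1 := congrArg (X.presheaf.map (homOfLE hle).op) h0
  erw [map_zero, ← ConcreteCategory.comp_apply, ← Functor.map_comp] at h1
  exact h V.1 (h1.trans (map_zero _).symm)


variable {S : Scheme.{u}} {𝒳 𝒴 : AlgSt.Cat S} {U : Over S}

/-- Baldness, on smooth charts. -/
def IsBald (𝒳 : AlgSt.Cat S) : Prop :=
  ∀ (U : Over S) (x : FibCat.overCat U ⥤ᵇ 𝒳), AlgSt.RepByAlgSpWith (AlgSp.LocP @Smooth) x →
    ∃ V : U.left.Opens,
      (∀ (T : Over S) (g : T ⟶ U), (∃ g' : T.left ⟶ ↑V, g' ≫ V.ι = g.left) ↔ IsoNat.IsClean (x.obj (Over.mk g))) ∧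
      CInt.IsSchematicallyDense V

/-- Smooth points of a bald separated stack have no automorphisms. -/
theorem rigC_of_bald (hX : IsFibGrpd 𝒳.p)
    (hd : AlgSt.RepByAlgSpWith AlgSp.IsSeparatedMor (FibCat.diag (toSelf 𝒳))) (hb : IsBald 𝒳)
    (x : overCat U ⥤ᵇ 𝒳) (hx : AlgSt.RepByAlgSpWith (AlgSp.LocP @Smooth) x) : RigC x := by
  intro T a b ha v w
  have hs : AlgSt.RepByAlgSpWith (AlgSp.LocP @Smooth) (BasedFunctor.comp (AlgSt.overMap a) x) :=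
    with_comp_locP AlgSpLib.etLocal_smooth (isAlgStack_overCat U).isStack.1
      (with_overMap AlgSpLib.etLocal_smooth a ha) hx
  obtain ⟨V, hV, hVd⟩ := hb T _ hs
  let O : Over S := Over.mk (V.ι ≫ T.hom)
  let j : O ⟶ T := Over.homMk V.ι rfl
  have hc : IsoNat.IsClean (x.obj (Over.mk (j ≫ a))) := (hV O j).1 ⟨𝟙 _, Category.id_comp _⟩
  refine Vt.ext (hom_ext_of_dominant hX hd v.hom w.hom (v.map_hom.trans w.map_hom.symm) (x.map (kh j rfl)) ?_ ?_)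
  · rw [map_kh]
    exact isDominantSch_conj j (isDominantSch_ι hVd) (x.w_obj (Over.mk (j ≫ a))) (x.w_obj (Over.mk a))
  · obtain ⟨χ, ⟨hχ, hχe⟩, -⟩ := fibGrpd_fac hX (x.map (kh j rfl : Over.mk (j ≫ a) ⟶ Over.mk a) ≫ w.hom)
      (x.map (kh j rfl : Over.mk (j ≫ a) ⟶ Over.mk a) ≫ v.hom) (𝟙 _) (by
        rw [Category.id_comp, 𝒳.p.map_comp, 𝒳.p.map_comp, v.map_hom, w.map_hom])
    rw [← hχe, hc _ (𝟙 _) χ hχ, Category.id_comp]

/-- Two classes agree exactly when there is a vertical arrow. -/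
theorem nonempty_vt_iff (hX : IsFibGrpd 𝒳.p) (x : overCat U ⥤ᵇ 𝒳) {T : Over S} (a b : T ⟶ U) :
    Nonempty (Vt x a b) ↔ (IsoNat.cls (⟨x.obj (Over.mk a), x.w_obj _⟩ : 𝒳.p.Fiber T)) =
      IsoNat.cls (⟨x.obj (Over.mk b), x.w_obj _⟩ : 𝒳.p.Fiber T) := by
  refine ⟨fun ⟨v⟩ => cls_eq_of_map hX v.hom v.map_hom, fun h => ?_⟩
  obtain ⟨i⟩ := Quotient.exact h
  haveI := i.hom.2
  exact ⟨⟨i.hom.1, map_eq_of_vert 𝒳.p (R := T) i.hom.1⟩⟩

/-- The classes of corresponding charts correspond. -/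
theorem cls_point (hX : IsFibGrpd 𝒳.p) (hY : IsFibGrpd 𝒴.p) (φ : IsoNat.FIso 𝒳 𝒴) (x : overCat U ⥤ᵇ 𝒳)
    (y : overCat U ⥤ᵇ 𝒴) (hxy : φ.toEquiv U (IsoNat.objCls x) = IsoNat.objCls y) {T : Over S} (a : T ⟶ U) :
    φ.toEquiv T (IsoNat.cls ⟨x.obj (Over.mk a), x.w_obj _⟩) = IsoNat.cls ⟨y.obj (Over.mk a), y.w_obj _⟩ := by
  have e : ∀ {𝒵 : AlgSt.Cat S} (h : IsFibGrpd 𝒵.p) (z : overCat U ⥤ᵇ 𝒵),
      pb h a (IsoNat.objCls z) = IsoNat.cls ⟨z.obj (Over.mk a), z.w_obj _⟩ := fun {𝒵} h z =>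
    pb_cls h (x' := ⟨z.obj (Over.mk a), z.w_obj _⟩) (toTop z (Over.mk a))
      (IsHomLift.of_fac' 𝒵.p _ _ (z.w_obj _) (z.w_obj _) (by rw [toTop_map]; rfl))
  rw [← e hX x, pb_natural hX φ hY, hxy, e hY y]

/-- The main theorem. -/
theorem exists_equiv_of_bald (hgX : Chart.Good 𝒳) (hgY : Chart.Good 𝒴) (hbX : IsBald 𝒳) (hbY : IsBald 𝒴)
    (φ : IsoNat.FIso 𝒳 𝒴) : ∃ e : 𝒳 ⥤ᵇ 𝒴, IsEquivOver e := by
  have h𝒳 := hgX.alg
  have h𝒴 := hgY.alg
  have hX := h𝒳.isStack.1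
  have hY := h𝒴.isStack.1
  obtain ⟨U, x, hx, hxs⟩ := h𝒳.atlas
  obtain ⟨c, hc⟩ := Quotient.exists_rep (φ.toEquiv U (IsoNat.objCls x))
  obtain ⟨y, i, hi⟩ := exists_classifying hY c.1 c.2
  have hxy : φ.toEquiv U (IsoNat.objCls x) = IsoNat.objCls y := by
    rw [← hc]
    exact (cls_eq_of_map hY (a := ⟨y.obj (Over.mk (𝟙 U)), y.w_obj _⟩) (b := c) i.hom
      (map_eq_of_vert 𝒴.p (R := U) i.hom)).symm
  have hy := IsoNatLib.Chart.smooth_transfer hgX hgY φ hxy hx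
  have rX : RigC x := rigC_of_bald hX hgX.sep hbX x hx
  have rY : RigC y := rigC_of_bald hY hgY.sep hbY y hy
  have sXY : Sim x y := fun {T} a b v => (nonempty_vt_iff hY y a b).2 (by
    rw [← cls_point hX hY φ x y hxy a, ← cls_point hX hY φ x y hxy b, (nonempty_vt_iff hX x a b).1 ⟨v⟩])
  have sYX : Sim y x := fun {T} a b v => (nonempty_vt_iff hX x a b).2 ((φ.toEquiv T).injective (by
    rw [cls_point hX hY φ x y hxy a, cls_point hX hY φ x y hxy b, (nonempty_vt_iff hY y a b).1 ⟨v⟩]))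
  obtain ⟨Cx⟩ := exists_chart h𝒳 x hx
  obtain ⟨Cy⟩ := exists_chart h𝒴 y hy
  obtain ⟨F, hF⟩ := exists_natural hX h𝒴.isStack Cx rY sXY
  obtain ⟨G, hG⟩ := exists_natural hY h𝒳.isStack Cy rX sYX
  have hGF : ∀ {T : Over S} (a b : T ⟶ U) (v : Vt x a b), G a b (F a b v) = v := fun {T} a b v =>
    Natural.ext h𝒳.isStack Cx rX (F := fun a b v => G a b (F a b v)) (G := fun _ _ v => v)
      (fun {T' T} k {a b a' b'} v v' h => hG k _ _ (hF k v v' h)) (fun {T' T} k {a b a' b'} v v' h => h) v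
  have hFG : ∀ {T : Over S} (a b : T ⟶ U) (v : Vt y a b), F a b (G a b v) = v := fun {T} a b v =>
    Natural.ext h𝒴.isStack Cy rY (F := fun a b v => F a b (G a b v)) (G := fun _ _ v => v)
      (fun {T' T} k {a b a' b'} v v' h => hF k _ _ (hG k v v' h)) (fun {T' T} k {a b a' b'} v v' h => h) v
  let E : VtEquiv x y :=
    { F := fun a b => F a b
      bij := fun a b => Function.bijective_iff_has_inverse.2 ⟨G a b, hGF a b, hFG a b⟩
      natural := fun {T' T} k {a b a' b'} v v' h => hF k v v' h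
      mul := fun v w => hF.map_mul hX h𝒴.isStack Cx rY v w }
  have hdx : DenseC x := fun z => by
    obtain ⟨z', j, hj⟩ := exists_classifying hX z rfl
    obtain ⟨T', c, hc₁, hc₂, hc₃, w, ⟨k⟩⟩ :=
      exists_lift_of_cover (with_flat_of_smooth hx).1 (with_flat_of_smooth hx).2 hxs _ z'
    let P := w.obj (Over.mk (𝟙 T'))
    have eP : P.left = T' := w.w_obj _
    let iP : (Over.mk (eqToHom eP.symm ≫ P.hom) : (overCat U).obj) ≅ P := Over.isoMk (eqToIso eP.symm) rfl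
    refine ⟨T', eqToHom eP.symm ≫ P.hom, x.map iP.hom ≫ k.hom.toNatTrans.app (Over.mk (𝟙 T')) ≫
      toTop z' _ ≫ j.hom, ?_⟩
    have e : bas x (x.map iP.hom ≫ k.hom.toNatTrans.app (Over.mk (𝟙 T')) ≫ toTop z' _ ≫ j.hom) = c := by
      simp [bas, based_map x, based_app_map, toTop_map, map_eq_of_vert 𝒳.p (R := 𝒳.p.obj z) j.hom, iP,
        AlgSt.overMap]
    rw [e]
    exact ⟨hc₁, hc₂, hc₃⟩
  refine exists_equiv E h𝒳.isStack h𝒴.isStack hdx fun η => ?_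
  obtain ⟨z, hz⟩ := Quotient.exists_rep ((φ.toEquiv (𝒴.p.obj η)).symm (IsoNat.cls ⟨η, rfl⟩))
  obtain ⟨T', a, ψ, hψ⟩ := hdx z.1
  let c : T' ⟶ 𝒴.p.obj η := bas x ψ ≫ eqToHom z.2
  have h1 : pb hX c (IsoNat.cls z) = IsoNat.cls ⟨x.obj (Over.mk a), x.w_obj _⟩ :=
    pb_cls hX (x' := ⟨x.obj (Over.mk a), x.w_obj _⟩) ψ
      (IsHomLift.of_fac' 𝒳.p _ _ (x.w_obj _) z.2 (by simp [c, bas]))
  have h2 : pb hY c (IsoNat.cls ⟨η, rfl⟩) = IsoNat.cls ⟨y.obj (Over.mk a), y.w_obj _⟩ := by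
    rw [← cls_point hX hY φ x y hxy a, ← h1, pb_natural hX φ hY]
    congr 1
    rw [show IsoNat.cls z = (φ.toEquiv _).symm (IsoNat.cls ⟨η, rfl⟩) from hz, Equiv.apply_symm_apply]
  obtain ⟨h, hh⟩ := exists_arrow_of_pb_eq hY (x' := ⟨y.obj (Over.mk a), y.w_obj _⟩) h2
  refine ⟨T', a, h, ?_⟩
  have e : bas y h = bas x ψ ≫ eqToHom z.2 := by
    simp [bas, hh, c]
  rw [e]
  exact hψ.comp ⟨inferInstance, inferInstance, inferInstance⟩

end Groth.Agent.IsoNatLib.Bald
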