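import Groth.Agent.IsoNatLib.Bald.Vt

/-!
# Transport of vertical arrows between two charts which are rigid over smooth points
-/

set_option autoImplicit false
set_option linter.style.haveILetI false
set_option backward.isDefEq.respectTransparency false
set_option backward.isDefEq.respectTransparency.types false

universe u

open CategoryTheory CategoryTheory.Limits AlgebraicGeometry Opposite FibCat
open Groth.Agent.Stk19 Groth.Agent.Desc19 Groth.Agent.IsoNatLib.Twist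

namespace Groth.Agent.IsoNatLib.Bald

variable {S : Scheme.{u}} {𝒳 𝒴 : AlgSt.Cat S} {U : Over S}

/-- A smooth presentation of the sheaf of vertical arrows between pullbacks of the chart. -/
structure Chart (x : overCat U ⥤ᵇ 𝒳) where
  /-- the source -/
  W : Over S
  /-- the first point -/
  g₁ : W ⟶ U
  /-- the second point -/
  g₂ : W ⟶ U
  /-- the universal arrow -/
  γ : Vt x g₁ g₂
  smooth : Smooth g₁.left
  surj : ∀ {T : Over S} {a b : T ⟶ U} (α : Vt x a b), ∃ (T' : Over S) (c : T' ⟶ T), IsCov c ∧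
    ∃ (k : T' ⟶ W) (a' b' : T' ⟶ U) (ε : Vt x a' b'), IsRes x c α ε ∧ IsRes x k γ ε
  indep : ∀ {T : Over S} (k k' : T ⟶ W) {a b : T ⟶ U} (ε : Vt x a b), IsRes x k γ ε → IsRes x k' γ ε →
    ∃ (T' : Over S) (c : T' ⟶ T), IsCov c ∧ ∃ (W₂ : Over S) (π π' : W₂ ⟶ W) (l : T' ⟶ W₂) (a₂ b₂ : W₂ ⟶ U)
      (γ₂ : Vt x a₂ b₂), l ≫ π = c ≫ k ∧ l ≫ π' = c ≫ k' ∧ IsRes x π γ γ₂ ∧ IsRes x π' γ γ₂ ∧ Smooth a₂.left

/-- Whenever two points are identified by `x` they are identified by `y`. -/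
def Sim (x : overCat U ⥤ᵇ 𝒳) (y : overCat U ⥤ᵇ 𝒴) : Prop :=
  ∀ {T : Over S} (a b : T ⟶ U), Vt x a b → Nonempty (Vt y a b)

/-- Smooth points have no automorphisms. -/
def RigC (y : overCat U ⥤ᵇ 𝒴) : Prop :=
  ∀ {T : Over S} (a b : T ⟶ U), Smooth a.left → ∀ v w : Vt y a b, v = w

/-- Assignments of vertical arrows compatible with pullbacks. -/
def Natural (x : overCat U ⥤ᵇ 𝒳) (y : overCat U ⥤ᵇ 𝒴) (F : ∀ {T : Over S} (a b : T ⟶ U), Vt x a b → Vt y a b) :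
    Prop :=
  ∀ {T' T : Over S} (k : T' ⟶ T) {a b : T ⟶ U} {a' b' : T' ⟶ U} (v : Vt x a b) (v' : Vt x a' b'),
    IsRes x k v v' → IsRes y k (F a b v) (F a' b' v')

variable {x : overCat U ⥤ᵇ 𝒳} {y : overCat U ⥤ᵇ 𝒴}

/-- Two natural assignments agree. -/
theorem Natural.ext (hY : Stk.IsStack (AlgSp.J S) 𝒴) (C : Chart x) (hrig : RigC y)
    {F G : ∀ {T : Over S} (a b : T ⟶ U), Vt x a b → Vt y a b} (hF : Natural x y F) (hG : Natural x y G)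
    {T : Over S} {a b : T ⟶ U} (α : Vt x a b) : F a b α = G a b α := by
  obtain ⟨T', c, hc, k, a', b', ε, h₁, h₂⟩ := C.surj α
  have e := hrig _ _ C.smooth (F _ _ C.γ) (G _ _ C.γ)
  have : F a' b' ε = G a' b' ε := by
    refine (hF k C.γ ε h₂).unique hY.1 ?_
    exact (congrArg (fun t => IsRes y k t (G a' b' ε)) e).mpr (hG k C.γ ε h₂)
  exact Vt.ext_cov hY hc (hF c α ε h₁) ((congrArg (IsRes y c (G a b α)) this).mpr (hG c α ε h₁))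

/-- The key independence of the factorisation. -/
theorem Chart.res_eq (hX : IsFibGrpd 𝒳.p) (hY : Stk.IsStack (AlgSp.J S) 𝒴) (C : Chart x) (hrig : RigC y)
    (δ : Vt y C.g₁ C.g₂) {T : Over S} {k k' : T ⟶ C.W} {a b : T ⟶ U} {ε : Vt x a b} (h : IsRes x k C.γ ε)
    (h' : IsRes x k' C.γ ε) {η η' : Vt y a b} (hη : IsRes y k δ η) (hη' : IsRes y k' δ η') : η = η' := by
  obtain ⟨T', c, hc, W₂, π, π', l, a₂, b₂, γ₂, hl, hl', hπ, hπ', hsm⟩ := C.indep k k' ε h h'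
  obtain ⟨ha, hb, -⟩ := hπ
  obtain ⟨ha', hb', -⟩ := hπ'
  obtain ⟨δ₂, hδ⟩ := exists_res hY.1 π δ ha hb
  obtain ⟨δ₂', hδ'⟩ := exists_res hY.1 π' δ ha' hb'
  obtain rfl := hrig _ _ hsm δ₂ δ₂'
  obtain ⟨ka, kb, -⟩ := h
  obtain ⟨ka', kb', -⟩ := h'
  obtain ⟨ξ, hξ⟩ := exists_res hY.1 c η (a' := c ≫ a) (b' := c ≫ b) rfl rfl
  obtain ⟨ξ', hξ'⟩ := exists_res hY.1 c η' (a' := c ≫ a) (b' := c ≫ b) rfl rfl
  obtain ⟨ζ, hζ⟩ := exists_res hY.1 l δ₂ (a' := c ≫ a) (b' := c ≫ b)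
    (by rw [← ha, reassoc_of% hl, ka]) (by rw [← hb, reassoc_of% hl, kb])
  have e₁ : ξ = ζ := (hη.comp hξ).unique hY.1 (hl ▸ hδ.comp hζ)
  have e₂ : ξ' = ζ := (hη'.comp hξ').unique hY.1 (hl' ▸ hδ'.comp hζ)
  exact Vt.ext_cov hY hc (e₁ ▸ hξ) (e₂ ▸ hξ')

/-- The transported arrow on a point. -/
def IsTheta (C : Chart x) (δ : Vt y C.g₁ C.g₂) {T : Over S} {a b : T ⟶ U} (α : Vt x a b) (β : Vt y a b) : Prop :=
  ∀ {T' : Over S} (c : T' ⟶ T) (k : T' ⟶ C.W) {a' b' : T' ⟶ U} (ε : Vt x a' b') (η : Vt y a' b'),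
    IsRes x c α ε → IsRes x k C.γ ε → IsRes y c β η → IsRes y k δ η

theorem exists_theta (hX : IsFibGrpd 𝒳.p) (hY : Stk.IsStack (AlgSp.J S) 𝒴) (C : Chart x) (hrig : RigC y)
    (δ : Vt y C.g₁ C.g₂) {T : Over S} {a b : T ⟶ U} (α : Vt x a b) : ∃ β, IsTheta C δ α β := by
  obtain ⟨T', c, hc, k, a', b', ε, hε, hk⟩ := C.surj α
  have ⟨ha, hb, _⟩ := hε
  have ⟨ka, kb, _⟩ := hk
  obtain ⟨η, hη⟩ := exists_res hY.1 k δ ka kb
  obtain ⟨β, hβ⟩ := Vt.exists_descend hY hc ha hb η fun T'' p q hpq a'' b'' v₁ v₂ h₁ h₂ => by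
    have ⟨pa, pb, _⟩ := h₁
    have ⟨qa, qb, _⟩ := h₂
    obtain ⟨ε₁, hp⟩ := exists_res hX p ε pa pb
    obtain ⟨ε₂, hq⟩ := exists_res hX q ε qa qb
    obtain rfl : ε₁ = ε₂ := (hε.comp hp).unique hX (hpq ▸ hε.comp hq)
    exact C.res_eq hX hY hrig δ (hk.comp hp) (hk.comp hq) (hη.comp h₁) (hη.comp h₂)
  refine ⟨β, fun {T₁} c₁ k₁ {a₁ b₁} ε₁ η₁ hε₁ hk₁ hη₁ => ?_⟩
  have ⟨ka₁, kb₁, _⟩ := hk₁
  have ⟨ca₁, cb₁, _⟩ := hε₁
  obtain ⟨η₁', hη₁'⟩ := exists_res hY.1 k₁ δ ka₁ kb₁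
  suffices e : η₁ = η₁' from e ▸ hη₁'
  let p₁ := pullback.fst c₁ c
  let p := pullback.snd c₁ c
  obtain ⟨ε', he⟩ := exists_res hX p₁ ε₁ (a' := p₁ ≫ a₁) (b' := p₁ ≫ b₁) rfl rfl
  obtain ⟨ε'', he'⟩ := exists_res hX p ε (a' := p₁ ≫ a₁) (b' := p₁ ≫ b₁)
    (by rw [← ha, ← ca₁]; exact (pullback.condition_assoc _).symm)
    (by rw [← hb, ← cb₁]; exact (pullback.condition_assoc _).symm)
  obtain rfl : ε' = ε'' := (hε₁.comp he).unique hX (by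
    have h' := hε.comp he'
    rwa [show p ≫ c = p₁ ≫ c₁ from pullback.condition.symm] at h')
  obtain ⟨ξ, hξ⟩ := exists_res hY.1 p₁ η₁ (a' := p₁ ≫ a₁) (b' := p₁ ≫ b₁) rfl rfl
  obtain ⟨ξ', hξ'⟩ := exists_res hY.1 p₁ η₁' (a' := p₁ ≫ a₁) (b' := p₁ ≫ b₁) rfl rfl
  have ⟨pa, pb, _⟩ := he'
  obtain ⟨ζ, hζ⟩ := exists_res hY.1 p η pa pb
  have e₁ : ξ = ζ := (hη₁.comp hξ).unique hY.1 (by
    have h' := hβ.comp hζ
    rwa [show p ≫ c = p₁ ≫ c₁ from pullback.condition.symm] at h')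
  have e₂ : ξ' = ζ := C.res_eq hX hY hrig δ (hk₁.comp he) (hk.comp he') (hη₁'.comp hξ') (hη.comp hζ)
  exact Vt.ext_cov hY (cov_pullback_fst' c₁ c hc) (e₁ ▸ hξ) (e₂ ▸ hξ')

/-- A transported arrow exists, naturally. -/
theorem exists_natural (hX : IsFibGrpd 𝒳.p) (hY : Stk.IsStack (AlgSp.J S) 𝒴) (C : Chart x) (hrig : RigC y)
    (hsim : Sim x y) : ∃ F : ∀ {T : Over S} (a b : T ⟶ U), Vt x a b → Vt y a b, Natural x y F := by
  obtain ⟨δ⟩ := hsim _ _ C.γ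
  choose F hF using fun (T : Over S) (a b : T ⟶ U) (α : Vt x a b) => exists_theta hX hY C hrig δ α
  refine ⟨fun {T} => F T, fun {T' T} j {a b a' b'} v v' h => ?_⟩
  have ⟨ja, jb, _⟩ := h
  obtain ⟨β, hβ⟩ := exists_res hY.1 j (F T a b v) ja jb
  suffices e : F T' a' b' v' = β from (congrArg (IsRes y j (F T a b v)) e).mpr hβ
  obtain ⟨T'', c, hc, k, a'', b'', ε, hε, hk⟩ := C.surj v'
  have ⟨ca, cb, _⟩ := hε
  obtain ⟨η, hη⟩ := exists_res hY.1 c (F T' a' b' v') ca cb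
  obtain ⟨η', hη'⟩ := exists_res hY.1 c β ca cb
  have e₁ := hF T' a' b' v' c k ε η hε hk hη
  have e₂ := hF T a b v (c ≫ j) k ε η' (h.comp hε) hk (hβ.comp hη')
  exact Vt.ext_cov hY hc hη ((e₁.unique hY.1 e₂) ▸ hη')

/-- Natural assignments respect composition. -/
theorem Natural.map_mul (hX : IsFibGrpd 𝒳.p) (hY : Stk.IsStack (AlgSp.J S) 𝒴) (C : Chart x) (hrig : RigC y)
    {F : ∀ {T : Over S} (a b : T ⟶ U), Vt x a b → Vt y a b} (hF : Natural x y F)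
    {T : Over S} {a b d : T ⟶ U} (α : Vt x a b) (α' : Vt x b d) :
    F a d (α.mul α') = (F a b α).mul (F b d α') := by
  obtain ⟨T₁, c₁, hc₁, k₁, a₁, b₁, ε₁, hε₁, hk₁⟩ := C.surj α
  obtain ⟨T₂, c₂, hc₂, k₂, a₂, b₂, ε₂, hε₂, hk₂⟩ := C.surj α'
  have ⟨ca₁, cb₁, _⟩ := hε₁
  have ⟨ca₂, cb₂, _⟩ := hε₂
  have ⟨ka₁, kb₁, _⟩ := hk₁
  have ⟨ka₂, kb₂, _⟩ := hk₂
  let p₁ := pullback.fst c₁ c₂
  let p₂ := pullback.snd c₁ c₂
  let c := p₁ ≫ c₁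
  have hc : IsCov c := (cov_pullback_fst' c₁ c₂ hc₂).comp hc₁
  have hcc : p₂ ≫ c₂ = c := pullback.condition.symm
  let π := pullback.fst C.g₂ C.g₁
  let π' := pullback.snd C.g₂ C.g₁
  have hsm : Smooth (π ≫ C.g₁).left := by
    have := C.smooth
    have : Smooth π.left := MorphismProperty.of_isPullback (P := @Smooth)
      ((IsPullback.of_hasPullback C.g₂ C.g₁).map (Over.forget S)).flip C.smooth
    exact (inferInstance : Smooth (π.left ≫ C.g₁.left))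
  let l := pullback.lift (p₁ ≫ k₁) (p₂ ≫ k₂) (by
    rw [Category.assoc, Category.assoc, kb₁, ka₂, ← cb₁, ← ca₂, ← Category.assoc, ← Category.assoc, hcc])
  obtain ⟨v, hv⟩ := exists_res hX π C.γ (a' := π ≫ C.g₁) (b' := π ≫ C.g₂) rfl rfl
  obtain ⟨v', hv'⟩ := exists_res hX π' C.γ (a' := π ≫ C.g₂) (b' := π' ≫ C.g₂) pullback.condition.symm rfl
  have e := hrig _ _ hsm (F _ _ (v.mul v')) ((F _ _ v).mul (F _ _ v'))
  obtain ⟨ε, hε⟩ := exists_res hX c α (a' := c ≫ a) (b' := c ≫ b) rfl rfl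
  obtain ⟨ε', hε'⟩ := exists_res hX c α' (a' := c ≫ b) (b' := c ≫ d) rfl rfl
  have h1 : IsRes x l v ε := by
    have h₀ : IsRes x p₁ ε₁ ε := hε₁.of_comp hX hε
    have := hk₁.comp h₀
    rw [show p₁ ≫ k₁ = l ≫ π from (pullback.lift_fst _ _ _).symm] at this
    exact hv.of_comp hX this
  have h2 : IsRes x l v' ε' := by
    have h₀ : IsRes x p₂ ε₂ ε' := hε₂.of_comp hX (by rw [hcc]; exact hε')
    have := hk₂.comp h₀
    rw [show p₂ ≫ k₂ = l ≫ π' from (pullback.lift_snd _ _ _).symm] at this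
    exact hv'.of_comp hX this
  have e' : F _ _ (ε.mul ε') = (F _ _ ε).mul (F _ _ ε') := by
    refine (hF l (v.mul v') (ε.mul ε') (h1.mul h2)).unique hY.1 ?_
    exact (congrArg (fun t => IsRes y l t ((F _ _ ε).mul (F _ _ ε'))) e).mpr ((hF l v ε h1).mul (hF l v' ε' h2))
  exact Vt.ext_cov hY hc (hF c (α.mul α') (ε.mul ε') (hε.mul hε'))
    ((congrArg (IsRes y c ((F a b α).mul (F b d α'))) e').mpr ((hF c α ε hε).mul (hF c α' ε' hε')))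

end Groth.Agent.IsoNatLib.Bald
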