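import Groth.Agent.IsoNatLib.Bald.Glue

/-!
# Vertical arrows between pullbacks of an object on a chart
-/

set_option autoImplicit false
set_option linter.style.haveILetI false
set_option backward.isDefEq.respectTransparency false
set_option backward.isDefEq.respectTransparency.types false

universe u

open CategoryTheory CategoryTheory.Limits AlgebraicGeometry Opposite FibCat
open Groth.Agent.Stk19 Groth.Agent.Desc19 Groth.Agent.IsoNatLib.Twist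

namespace Groth.Agent.IsoNatLib.Bald

variable {S : Scheme.{u}} {𝒳 : AlgSt.Cat S} {U : Over S} (x : overCat U ⥤ᵇ 𝒳)

/-- A vertical arrow from the pullback along `a` to the pullback along `b`. -/
@[ext]
structure Vt {T : Over S} (a b : T ⟶ U) where
  /-- the arrow -/
  hom : x.obj (Over.mk a) ⟶ x.obj (Over.mk b)
  map_hom : 𝒳.p.map hom = eqToHom ((x.w_obj (Over.mk a)).trans (x.w_obj (Over.mk b)).symm)

/-- The map between points over a map of their sources. -/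
abbrev kh {T' T : Over S} (k : T' ⟶ T) {a' : T' ⟶ U} {a : T ⟶ U} (h : k ≫ a = a') :
    (Over.mk a' : (overCat U).obj) ⟶ Over.mk a := Over.homMk k h

theorem map_kh {T' T : Over S} (k : T' ⟶ T) {a' : T' ⟶ U} {a : T ⟶ U} (h : k ≫ a = a') :
    𝒳.p.map (x.map (kh k h)) = eqToHom (x.w_obj (Over.mk a')) ≫ k ≫ eqToHom (x.w_obj (Over.mk a)).symm :=
  based_map x (kh k h)

/-- `v'` is the pullback of `v` along `k`. -/
def IsRes {T' T : Over S} (k : T' ⟶ T) {a b : T ⟶ U} {a' b' : T' ⟶ U} (v : Vt x a b) (v' : Vt x a' b') : Prop :=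
  ∃ (ha : k ≫ a = a') (hb : k ≫ b = b'), v'.hom ≫ x.map (kh k hb) = x.map (kh k ha) ≫ v.hom

theorem cov_pullback_fst' {T₁ T₂ T : Over S} (c₁ : T₁ ⟶ T) (c₂ : T₂ ⟶ T) (h : IsCov c₂) :
    IsCov (pullback.fst c₁ c₂) := by
  have sq := ((IsPullback.of_hasPullback c₁ c₂).map (Over.forget S)).flip
  exact ⟨MorphismProperty.of_isPullback (P := @Flat) sq h.flat,
    MorphismProperty.of_isPullback (P := @LocallyOfFinitePresentation) sq h.lfp,
    MorphismProperty.of_isPullback (P := @Surjective) sq h.surj⟩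

variable {x}

theorem exists_res (hX : IsFibGrpd 𝒳.p) {T' T : Over S} (k : T' ⟶ T) {a b : T ⟶ U} {a' b' : T' ⟶ U}
    (v : Vt x a b) (ha : k ≫ a = a') (hb : k ≫ b = b') : ∃ v' : Vt x a' b', IsRes x k v v' := by
  obtain ⟨f, ⟨hf, hfe⟩, -⟩ := fibGrpd_fac hX (x.map (kh k hb)) (x.map (kh k ha) ≫ v.hom)
    (eqToHom ((x.w_obj (Over.mk a')).trans (x.w_obj (Over.mk b')).symm)) (by
      rw [𝒳.p.map_comp, v.map_hom, map_kh, map_kh]
      simp)
  exact ⟨⟨f, hf⟩, ha, hb, hfe⟩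

theorem IsRes.unique (hX : IsFibGrpd 𝒳.p) {T' T : Over S} {k : T' ⟶ T} {a b : T ⟶ U} {a' b' : T' ⟶ U}
    {v : Vt x a b} {v₁ v₂ : Vt x a' b'} (h₁ : IsRes x k v v₁) (h₂ : IsRes x k v v₂) : v₁ = v₂ := by
  obtain ⟨_, _, e₁⟩ := h₁
  obtain ⟨_, _, e₂⟩ := h₂
  exact Vt.ext (fibGrpd_ext hX _ (v₁.map_hom.trans v₂.map_hom.symm) (e₁.trans e₂.symm))

theorem kh_comp {T'' T' T : Over S} {j : T'' ⟶ T'} {k : T' ⟶ T} {a'' : T'' ⟶ U} {a' : T' ⟶ U} {a : T ⟶ U}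
    (h' : j ≫ a' = a'') (h : k ≫ a = a') :
    x.map (kh j h') ≫ x.map (kh k h) = x.map (kh (j ≫ k) (by rw [Category.assoc, h, h'])) := by
  rw [← x.toFunctor.map_comp]
  rfl

theorem IsRes.comp {T'' T' T : Over S} {j : T'' ⟶ T'} {k : T' ⟶ T} {a b : T ⟶ U} {a' b' : T' ⟶ U}
    {a'' b'' : T'' ⟶ U} {v : Vt x a b} {v' : Vt x a' b'} {v'' : Vt x a'' b''}
    (h : IsRes x k v v') (h' : IsRes x j v' v'') : IsRes x (j ≫ k) v v'' := by
  obtain ⟨ha, hb, e⟩ := h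
  obtain ⟨ha', hb', e'⟩ := h'
  refine ⟨by rw [Category.assoc, ha, ha'], by rw [Category.assoc, hb, hb'], ?_⟩
  rw [← kh_comp hb' hb, ← kh_comp ha' ha, reassoc_of% e', e, Category.assoc]

/-- Pullbacks of pullbacks are pullbacks. -/
theorem IsRes.of_comp (hX : IsFibGrpd 𝒳.p) {T'' T' T : Over S} {j : T'' ⟶ T'} {k : T' ⟶ T} {a b : T ⟶ U}
    {a' b' : T' ⟶ U} {a'' b'' : T'' ⟶ U} {v : Vt x a b} {v' : Vt x a' b'} {v'' : Vt x a'' b''}
    (h : IsRes x k v v') (h'' : IsRes x (j ≫ k) v v'') : IsRes x j v' v'' := by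
  obtain ⟨ha, hb, e⟩ := h
  obtain ⟨ha'', hb'', e''⟩ := h''
  obtain ⟨w, hw⟩ := exists_res hX j v' (a' := a'') (b' := b'') (by rw [← ha, ← Category.assoc, ha''])
    (by rw [← hb, ← Category.assoc, hb''])
  exact (IsRes.comp (v := v) ⟨ha, hb, e⟩ hw).unique hX ⟨ha'', hb'', e''⟩ ▸ hw

/-- The identity. -/
def Vt.id {T : Over S} (a : T ⟶ U) : Vt x a a :=
  ⟨𝟙 _, by rw [𝒳.p.map_id]; simp⟩

/-- Composition. -/
def Vt.mul {T : Over S} {a b c : T ⟶ U} (v : Vt x a b) (w : Vt x b c) : Vt x a c :=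
  ⟨v.hom ≫ w.hom, by rw [𝒳.p.map_comp, v.map_hom, w.map_hom, eqToHom_trans]⟩

theorem IsRes.id {T' T : Over S} (k : T' ⟶ T) {a : T ⟶ U} {a' : T' ⟶ U} (ha : k ≫ a = a') :
    IsRes x k (Vt.id a) (Vt.id a') := ⟨ha, ha, (Category.id_comp _).trans (Category.comp_id _).symm⟩

theorem IsRes.mul {T' T : Over S} {k : T' ⟶ T} {a b c : T ⟶ U} {a' b' c' : T' ⟶ U} {v : Vt x a b}
    {w : Vt x b c} {v' : Vt x a' b'} {w' : Vt x b' c'} (h : IsRes x k v v') (h' : IsRes x k w w') :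
    IsRes x k (v.mul w) (v'.mul w') := by
  obtain ⟨ha, hb, e⟩ := h
  obtain ⟨hb', hc, e'⟩ := h'
  refine ⟨ha, hc, ?_⟩
  show (v'.hom ≫ w'.hom) ≫ _ = _ ≫ v.hom ≫ w.hom
  rw [Category.assoc, e', reassoc_of% e]

/-- Vertical arrows agreeing after a covering agree. -/
theorem Vt.ext_cov (hS : Stk.IsStack (AlgSp.J S) 𝒳) {T' T : Over S} {c : T' ⟶ T} (hc : IsCov c) {a b : T ⟶ U}
    {a' b' : T' ⟶ U} {v₁ v₂ : Vt x a b} {v' : Vt x a' b'} (h₁ : IsRes x c v₁ v') (h₂ : IsRes x c v₂ v') :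
    v₁ = v₂ := by
  obtain ⟨ha, hb, e₁⟩ := h₁
  obtain ⟨_, _, e₂⟩ := h₂
  exact Vt.ext (hom_ext_cov hS hc (x.w_obj _) (x.w_obj _) _ (map_kh x c ha) v₁.hom v₂.hom
    (v₁.map_hom.trans v₂.map_hom.symm) (e₁.symm.trans e₂))

/-- An element over a covering with equal pullbacks to overlaps descends. -/
theorem Vt.exists_descend (hS : Stk.IsStack (AlgSp.J S) 𝒳) {T' T : Over S} {c : T' ⟶ T} (hc : IsCov c)
    {a b : T ⟶ U} {a' b' : T' ⟶ U} (ha : c ≫ a = a') (hb : c ≫ b = b') (v' : Vt x a' b')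
    (hcomp : ∀ (T'' : Over S) (p q : T'' ⟶ T'), p ≫ c = q ≫ c → ∀ (a'' b'' : T'' ⟶ U) (v₁ v₂ : Vt x a'' b''),
      IsRes x p v' v₁ → IsRes x q v' v₂ → v₁ = v₂) :
    ∃ v : Vt x a b, IsRes x c v v' := by
  have hX := hS.1
  obtain ⟨χ, hχ, hμχ⟩ := exists_hom_of_cover hS hc (x.w_obj (Over.mk a)) (x.w_obj (Over.mk b))
    (x.w_obj (Over.mk a')) (x.map (kh c ha)) (v'.hom ≫ x.map (kh c hb)) (map_kh x c ha) (by
      rw [𝒳.p.map_comp, v'.map_hom, map_kh]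
      simp) (fun w p q hpq => by
      have hb0 := congrArg 𝒳.p.map hpq
      rw [𝒳.p.map_comp, 𝒳.p.map_comp, map_kh] at hb0
      let π : (y : 𝒳.obj) → (y ⟶ x.obj (Over.mk a')) → (𝒳.p.obj y ⟶ T') := fun y r =>
        𝒳.p.map r ≫ eqToHom (x.w_obj (Over.mk a'))
      have hπ : π w p ≫ c = π w q ≫ c := by
        rw [← cancel_mono (eqToHom (x.w_obj (Over.mk a)).symm)]
        simpa [π] using hb0
      obtain ⟨v₁, h₁⟩ := exists_res hX (π w p) v' (a' := π w p ≫ a') (b' := π w p ≫ b') rfl rfl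
      obtain ⟨v₂, h₂⟩ := exists_res hX (π w q) v' (a' := π w p ≫ a') (b' := π w p ≫ b')
        (by rw [← ha, ← Category.assoc, ← hπ, Category.assoc])
        (by rw [← hb, ← Category.assoc, ← hπ, Category.assoc])
      obtain rfl := hcomp _ _ _ hπ _ _ v₁ v₂ h₁ h₂
      -- lift `w` to the standard object
      obtain ⟨ω, ⟨hω, hωp⟩, -⟩ := fibGrpd_fac hX (x.map (kh (π w p) rfl : Over.mk (π w p ≫ a') ⟶ Over.mk a')) p
        (eqToHom (x.w_obj (Over.mk (π w p ≫ a'))).symm) (by rw [map_kh]; simp [π])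
      obtain ⟨_, _, e₁⟩ := h₁
      obtain ⟨hqa, hqb, e₂⟩ := h₂
      have hωq : ω ≫ x.map (kh (π w q) hqa) = q := by
        refine fibGrpd_ext hX (x.map (kh c ha)) ?_ ?_
        · rw [𝒳.p.map_comp, hω, map_kh]
          simp [π]
        · refine Eq.trans ?_ ((congrArg (· ≫ x.map (kh c ha)) hωp).trans hpq)
          simp only [Category.assoc, kh_comp, hπ]
      conv_lhs => rw [← hωp, Category.assoc, ← reassoc_of% e₁, kh_comp]
      conv_rhs => rw [← hωq, Category.assoc, ← reassoc_of% e₂, kh_comp]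
      simp only [hπ])
  exact ⟨⟨χ, hχ⟩, ha, hb, hμχ.symm⟩

end Groth.Agent.IsoNatLib.Bald
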